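import Mathlib.RingTheory.Kaehler.Basic
import Mathlib.LinearAlgebra.ExteriorPower.Basis
import Groth.Prelude.Def_Conn
import Groth.Prelude.Def_W4swconnpcurvhiggsLogLam

/-! The pieces `E_I` of a logarithmic connection. -/

set_option autoImplicit false
universe u v

noncomputable section

open TensorProduct

namespace Groth.Agent.LC97

variable {A : Type v} {B L E : Type u} [CommRing A] [CommRing B] [Algebra A B]
  [AddCommGroup L] [Module B L] [Module A L] [IsScalarTower A B L]
  [AddCommGroup E] [Module B E] [Module A E] [IsScalarTower A B E]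
  {n : ℕ} (t : Fin n → B) (bΩ : Module.Basis (Fin n) B (KaehlerDifferential A B))
  (ω : Module.Basis (Fin n) B L) (nabla : E →ₗ[A] E ⊗[B] L)

/-- the partial derivative -/
def del (i : Fin n) (b : B) : B := bΩ.repr (KaehlerDifferential.D A B b) i

/-- the admissible data -/
structure Data (lam : B) (ι : KaehlerDifferential A B →ₗ[B] L) : Prop where
  hbΩ : ∀ i, bΩ i = KaehlerDifferential.D A B (t i)
  hι : ∀ i, ι (KaehlerDifferential.D A B (t i)) = t i • ω i
  hc : Conn.IsLamConn (ι.compDer (KaehlerDifferential.D A B)) lam nabla

/-- generators of a piece, as a `B`-submodule -/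
def pieceB (I : Finset (Fin n)) : Submodule B E :=
  Submodule.span B {z | ∃ J, J ⊆ I ∧ ∃ y, z = (∏ i ∈ I \ J, t i) • LogConn.compProd nabla ω J y}

omit [Algebra A B] [Module A L] [IsScalarTower A B L] in
theorem coord_iota {Ω : Type u} [AddCommGroup Ω] [Module B Ω] (b : Module.Basis (Fin n) B Ω) (ι : Ω →ₗ[B] L)
    (h : ∀ i, ι (b i) = t i • ω i) (i : Fin n) (x : Ω) : ω.coord i (ι x) = b.repr x i * t i := by
  conv_lhs => rw [← b.sum_repr x]
  simp only [map_sum, map_smul, h, Module.Basis.coord_apply, Module.Basis.repr_self, Finsupp.single_apply,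
    smul_eq_mul, mul_ite, mul_one, mul_zero]
  rw [Finset.sum_ite_eq' Finset.univ i, if_pos (Finset.mem_univ i)]

theorem compProd_empty : LogConn.compProd nabla ω ∅ = LinearMap.id := by simp [LogConn.compProd]

theorem compProd_insert_min {i : Fin n} {J : Finset (Fin n)} (h : ∀ j ∈ J, i < j) :
    LogConn.compProd nabla ω (insert i J) = LogConn.comp nabla ω i ∘ₗ LogConn.compProd nabla ω J := by
  rw [LogConn.compProd, Finset.sort_insert _ (fun j hj => (h j hj).le) (fun hi => lt_irrefl i (h i hi))]
  rfl

variable {t bΩ ω nabla} {lam : B} {ι : KaehlerDifferential A B →ₗ[B] L} (H : Data t bΩ ω nabla lam ι)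

theorem gen_mem {I J : Finset (Fin n)} (h : J ⊆ I) (c : B) (y : E) :
    c • ((∏ i ∈ I \ J, t i) • LogConn.compProd nabla ω J y) ∈ pieceB t ω nabla I :=
  Submodule.smul_mem _ _ (Submodule.subset_span ⟨J, h, y, rfl⟩)

theorem del_mul (i : Fin n) (a b : B) : del bΩ i (a * b) = a * del bΩ i b + b * del bΩ i a := by
  simp [del, Derivation.leibniz]

include H

theorem comp_smul (i : Fin n) (b : B) (x : E) :
    LogConn.comp nabla ω i (b • x) = b • LogConn.comp nabla ω i x + (lam * (del bΩ i b * t i)) • x := by
  simp only [LogConn.comp, Conn.along_apply, H.hc b x, map_add, map_smul]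
  congr 1
  rw [TensorProduct.map_tmul, TensorProduct.rid_tmul, LinearMap.id_apply, smul_smul]
  congr 2
  exact coord_iota t ω bΩ ι (fun i => by rw [H.hbΩ, H.hι]) i _

theorem del_t (i j : Fin n) : del bΩ i (t j) = if i = j then 1 else 0 := by
  rw [del, ← H.hbΩ, Module.Basis.repr_self, Finsupp.single_apply]
  simp [eq_comm]

theorem del_prod (i : Fin n) (S : Finset (Fin n)) :
    del bΩ i (∏ j ∈ S, t j) * t i = if i ∈ S then ∏ j ∈ S, t j else 0 := by
  induction S using Finset.induction_on with
  | empty => simp [del]
  | insert a S ha ih =>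
    rw [Finset.prod_insert ha, del_mul, del_t H, add_mul, mul_assoc, ih]
    by_cases hia : i = a
    · subst hia; simp [ha, mul_comm]
    · by_cases hiS : i ∈ S <;> simp [hia, hiS]

theorem del_prod_notMem {i : Fin n} {S : Finset (Fin n)} (h : i ∉ S) : del bΩ i (∏ j ∈ S, t j) = 0 := by
  induction S using Finset.induction_on with
  | empty => simp [del]
  | insert a S ha ih =>
    simp only [Finset.mem_insert, not_or] at h
    rw [Finset.prod_insert ha, del_mul, del_t H, ih h.2, if_neg h.1, mul_zero, mul_zero, add_zero]

theorem comp_prod_smul {i : Fin n} {S : Finset (Fin n)} (h : i ∉ S) (x : E) :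
    LogConn.comp nabla ω i ((∏ j ∈ S, t j) • x) = (∏ j ∈ S, t j) • LogConn.comp nabla ω i x := by
  rw [comp_smul H, del_prod_notMem H h, zero_mul, mul_zero, zero_smul, add_zero]

/-- the lower terms in the Leibniz rule of a composite -/
theorem compProd_smul (J : Finset (Fin n)) (b : B) (x : E) :
    LogConn.compProd nabla ω J (b • x) - b • LogConn.compProd nabla ω J x ∈
      Submodule.span B {z | ∃ K, K ⊂ J ∧ ∃ y, z = (∏ i ∈ J \ K, t i) • LogConn.compProd nabla ω K y} := by
  induction J using Finset.induction_on_min with
  | empty => simp [compProd_empty]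
  | insert i J hi ih =>
    have hiJ : i ∉ J := fun h => lt_irrefl i (hi i h)
    rw [compProd_insert_min ω nabla hi, LinearMap.comp_apply, LinearMap.comp_apply]
    let Q := Submodule.span B {z | ∃ K, K ⊂ insert i J ∧ ∃ y,
      z = (∏ l ∈ insert i J \ K, t l) • LogConn.compProd nabla ω K y}
    have hlow : ∀ K, K ⊂ insert i J → ∀ c y,
        (c * ∏ l ∈ insert i J \ K, t l) • LogConn.compProd nabla ω K y ∈ Q := fun K hK c y => by
      rw [mul_smul]; exact Submodule.smul_mem _ _ (Submodule.subset_span ⟨K, hK, y, rfl⟩)
    have key : ∀ z ∈ Submodule.span B {z | ∃ K, K ⊂ J ∧ ∃ y,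
        z = (∏ l ∈ J \ K, t l) • LogConn.compProd nabla ω K y}, ∀ c : B, LogConn.comp nabla ω i (c • z) ∈ Q := by
      intro z hz
      induction hz using Submodule.span_induction with
      | mem z hz =>
        obtain ⟨K, hK, y, rfl⟩ := hz
        intro c
        have hiK : i ∉ K := fun h => hiJ (hK.subset h)
        rw [comp_smul H, comp_prod_smul H (fun h => hiJ (Finset.mem_sdiff.1 h).1), smul_smul, smul_smul,
          ← LinearMap.comp_apply, ← compProd_insert_min ω nabla fun j hj => hi j (hK.subset hj)]
        refine add_mem ?_ ?_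
        · have e : insert i J \ insert i K = J \ K := by
            ext a; by_cases ha : a = i <;> simp [ha, hiJ]
          rw [← e]
          refine hlow _ ?_ c y
          rw [Finset.ssubset_iff_subset_ne]
          refine ⟨Finset.insert_subset_insert i hK.subset, fun h => hK.ne ?_⟩
          rw [← Finset.erase_insert hiK, h, Finset.erase_insert hiJ]
        · have e : insert i J \ K = insert i (J \ K) := Finset.insert_sdiff_of_notMem J hiK
          have := hlow K (Finset.ssubset_of_ssubset_of_subset hK (Finset.subset_insert i J)) (lam * del bΩ i c) y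
          rw [e, Finset.prod_insert (fun h => hiJ (Finset.mem_sdiff.1 h).1)] at this
          convert this using 2; ring
      | zero => simp
      | add u v _ _ hu hv => intro c; rw [smul_add, map_add]; exact add_mem (hu c) (hv c)
      | smul a z _ hz => intro c; rw [smul_smul]; exact hz _
    have h2 := key _ ih 1
    rw [one_smul, map_sub, comp_smul H] at h2
    have h3 : (lam * del bΩ i b * ∏ l ∈ insert i J \ J, t l) • LogConn.compProd nabla ω J x ∈ Q :=
      hlow J (Finset.ssubset_insert hiJ) _ _
    rw [Finset.insert_sdiff_of_notMem J hiJ, Finset.sdiff_self, Finset.prod_insert (by simp), Finset.prod_empty,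
      mul_one] at h3
    have h4 := add_mem h2 h3
    convert h4 using 1
    rw [mul_assoc lam]
    abel

theorem piece_eq (I : Finset (Fin n)) :
    (pieceB t ω nabla I).restrictScalars A = LogConn.piece nabla ω t I := by
  have h0 : ∀ J, J ⊆ I → ∀ y : E, (∏ i ∈ I \ J, t i) • LogConn.compProd nabla ω J y ∈ LogConn.piece nabla ω t I :=
    fun J hJ y => Submodule.mem_iSup_of_mem J (Submodule.mem_iSup_of_mem (Finset.mem_powerset.2 hJ) ⟨y, rfl⟩)
  refine le_antisymm ?_ ?_
  · have h1 : ∀ J, J ⊆ I → ∀ (c : B) (y : E), c • ((∏ i ∈ I \ J, t i) • LogConn.compProd nabla ω J y) ∈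
        LogConn.piece nabla ω t I := by
      intro J
      induction J using Finset.strongInduction with
      | H J ih =>
        intro hJ c y
        have hlow : ∀ q ∈ Submodule.span B {z | ∃ K, K ⊂ J ∧ ∃ y,
            z = (∏ l ∈ J \ K, t l) • LogConn.compProd nabla ω K y}, ∀ a : B,
            a • ((∏ i ∈ I \ J, t i) • q) ∈ LogConn.piece nabla ω t I := by
          intro q hq
          induction hq using Submodule.span_induction with
          | mem q hq =>
            obtain ⟨K, hK, y', rfl⟩ := hq
            intro a
            have e : (∏ i ∈ I \ J, t i) * ∏ i ∈ J \ K, t i = ∏ i ∈ I \ K, t i := by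
              rw [← Finset.prod_union]
              · refine Finset.prod_congr ?_ fun _ _ => rfl
                have := hK.subset
                ext a
                simp only [Finset.mem_union, Finset.mem_sdiff]
                constructor
                · rintro (⟨h1, h2⟩ | ⟨h1, h2⟩)
                  · exact ⟨h1, fun h => h2 (this h)⟩
                  · exact ⟨hJ h1, h2⟩
                · rintro ⟨h1, h2⟩
                  by_cases h : a ∈ J
                  · exact Or.inr ⟨h, h2⟩
                  · exact Or.inl ⟨h1, h⟩
              · exact Finset.disjoint_left.2 fun a ha hb => (Finset.mem_sdiff.1 ha).2 (Finset.mem_sdiff.1 hb).1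
            rw [smul_smul (∏ i ∈ I \ J, t i), e]
            exact ih K hK (hK.subset.trans hJ) a y'
          | zero => simp
          | add u v _ _ hu hv => intro a; rw [smul_add, smul_add]; exact add_mem (hu a) (hv a)
          | smul a q _ hq => intro a'; rw [smul_comm _ a, smul_smul]; exact hq _
        have h2 := sub_mem (h0 J hJ (c • y)) (hlow _ (compProd_smul H J c y) 1)
        rw [one_smul, ← smul_sub, sub_sub_cancel, smul_comm] at h2
        exact h2
    intro z hz
    change z ∈ pieceB t ω nabla I at hz
    suffices ∀ c : B, c • z ∈ LogConn.piece nabla ω t I by simpa using this 1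
    induction hz using Submodule.span_induction with
    | mem z hz => obtain ⟨J, hJ, y, rfl⟩ := hz; exact fun c => h1 J hJ c y
    | zero => simp
    | add u v _ _ hu hv => intro c; rw [smul_add]; exact add_mem (hu c) (hv c)
    | smul a z _ hz => intro c; rw [smul_smul]; exact hz _
  · refine iSup₂_le fun J hJ => ?_
    rintro _ ⟨y, rfl⟩
    exact Submodule.subset_span ⟨J, Finset.mem_powerset.1 hJ, y, rfl⟩

theorem span_generators {m : ℕ} (e : Fin m → E) (he : Submodule.span B (Set.range e) = ⊤) (I : Finset (Fin n)) :
    Submodule.span B (⋃ J ∈ I.powerset, Set.range (fun k : Fin m =>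
        (∏ i ∈ I \ J, t i) • LogConn.compProd nabla ω J (e k))) = pieceB t ω nabla I := by
  refine le_antisymm (Submodule.span_le.2 ?_) (Submodule.span_le.2 ?_)
  · simp only [Set.iUnion_subset_iff]
    rintro J hJ _ ⟨k, rfl⟩
    exact Submodule.subset_span ⟨J, Finset.mem_powerset.1 hJ, e k, rfl⟩
  · rintro _ ⟨J, hJ, y, rfl⟩
    induction J using Finset.strongInduction generalizing y with
    | H J ih =>
      let S := Submodule.span B (⋃ J ∈ I.powerset, Set.range (fun k : Fin m =>
        (∏ i ∈ I \ J, t i) • LogConn.compProd nabla ω J (e k)))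
      have hlow : ∀ q ∈ Submodule.span B {z | ∃ K, K ⊂ J ∧ ∃ y,
          z = (∏ l ∈ J \ K, t l) • LogConn.compProd nabla ω K y}, (∏ i ∈ I \ J, t i) • q ∈ S := by
        intro q hq
        induction hq using Submodule.span_induction with
        | mem q hq =>
          obtain ⟨K, hK, y', rfl⟩ := hq
          have e : (∏ i ∈ I \ J, t i) * ∏ i ∈ J \ K, t i = ∏ i ∈ I \ K, t i := by
            rw [← Finset.prod_union]
            · refine Finset.prod_congr ?_ fun _ _ => rfl
              have := hK.subset
              ext a
              simp only [Finset.mem_union, Finset.mem_sdiff]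
              constructor
              · rintro (⟨h1, h2⟩ | ⟨h1, h2⟩)
                · exact ⟨h1, fun h => h2 (this h)⟩
                · exact ⟨hJ h1, h2⟩
              · rintro ⟨h1, h2⟩
                by_cases h : a ∈ J
                · exact Or.inr ⟨h, h2⟩
                · exact Or.inl ⟨h1, h⟩
            · exact Finset.disjoint_left.2 fun a ha hb => (Finset.mem_sdiff.1 ha).2 (Finset.mem_sdiff.1 hb).1
          rw [smul_smul, e]
          exact ih K hK (hK.subset.trans hJ) y'
        | zero => simp
        | add u v _ _ hu hv => rw [smul_add]; exact add_mem hu hv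
        | smul a q _ hq => rw [smul_comm]; exact Submodule.smul_mem _ _ hq
      have hy : y ∈ Submodule.span B (Set.range e) := he ▸ trivial
      obtain ⟨c, rfl⟩ := (Submodule.mem_span_range_iff_exists_fun B).1 hy
      simp only [map_sum, Finset.smul_sum]
      refine Submodule.sum_mem _ fun k _ => ?_
      have h1 := hlow _ (compProd_smul H J (c k) (e k))
      have h2 : c k • ((∏ i ∈ I \ J, t i) • LogConn.compProd nabla ω J (e k)) ∈ S :=
        Submodule.smul_mem _ _ (Submodule.subset_span
          (Set.mem_iUnion₂.2 ⟨J, Finset.mem_powerset.2 hJ, k, rfl⟩))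
      rw [smul_comm] at h2
      have h3 := add_mem h1 h2
      rwa [← smul_add, sub_add_cancel] at h3

end Groth.Agent.LC97
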