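import Groth.Agent.LC97.Layer2

/-! Change of admissible coordinates. -/

set_option autoImplicit false
universe u v

noncomputable section

open TensorProduct

namespace Groth.Agent.LC97

variable {A : Type v} {B L E : Type u} [CommRing A] [CommRing B] [Algebra A B]
  [AddCommGroup L] [Module B L] [Module A L] [IsScalarTower A B L]
  [AddCommGroup E] [Module B E] [Module A E] [IsScalarTower A B E]
  {n : ℕ} {nabla : E →ₗ[A] E ⊗[B] L} {lam : B} {ι : KaehlerDifferential A B →ₗ[B] L}
  {t t' : Fin n → B} {bΩ bΩ' : Module.Basis (Fin n) B (KaehlerDifferential A B)}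
  {ω ω' : Module.Basis (Fin n) B L}
  (H : Data t bΩ ω nabla lam ι) (H' : Data t' bΩ' ω' nabla lam ι)
  (hcomm : ∀ (a b : Fin n) (m : E),
    LogConn.comp nabla ω a (LogConn.comp nabla ω b m) = LogConn.comp nabla ω b (LogConn.comp nabla ω a m))
  (hcomm' : ∀ (a b : Fin n) (m : E),
    LogConn.comp nabla ω' a (LogConn.comp nabla ω' b m) = LogConn.comp nabla ω' b (LogConn.comp nabla ω' a m))
  (ht : ∀ i, ∃ r, t i = r * t' i)
  (hM : ∀ i l, ∃ r, ω.coord i (ω' l) = (if l = i then 1 else 0) + t i * r)
  (hM' : ∀ i l, ∃ r, ω'.coord i (ω l) = (if l = i then 1 else 0) + t' i * r)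

omit [Module A L] [IsScalarTower A B L] in
theorem comp_change (i : Fin n) (m : E) :
    LogConn.comp nabla ω i m = ∑ l, ω.coord i (ω' l) • LogConn.comp nabla ω' l m := by
  rw [show LogConn.comp nabla ω i m = TensorProduct.rid B E (TensorProduct.map LinearMap.id (ω.coord i) (nabla m)) from rfl,
    nabla_eq ω' nabla m, map_sum, map_sum]
  rfl

include H H' hcomm hcomm' ht hM

theorem pieceB_le (K : Finset (Fin n)) : pieceB t ω nabla K ≤ pieceB t' ω' nabla K := by
  induction K using Finset.induction_on with
  | empty =>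
    refine Submodule.span_le.2 ?_
    rintro _ ⟨J, hJ, y, rfl⟩
    obtain rfl := Finset.subset_empty.1 hJ
    exact Submodule.subset_span ⟨∅, subset_rfl, y, by simp [compProd_empty]⟩
  | insert i K hi ih =>
    have hscal : ∀ z ∈ pieceB t' ω' nabla K, ∀ c : B, (c * t i) • z ∈ pieceB t' ω' nabla (insert i K) := by
      intro z hz c
      obtain ⟨r, hr⟩ := ht i
      have h1 := prod_smul_mem (t := t') (ω := ω') (nabla := nabla) (Finset.subset_insert i K) hz
      rw [Finset.insert_sdiff_of_notMem K hi, Finset.sdiff_self, Finset.prod_insert (Finset.notMem_empty i),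
        Finset.prod_empty, mul_one] at h1
      rw [hr, ← mul_assoc, mul_smul]
      exact Submodule.smul_mem _ _ h1
    refine Submodule.span_le.2 ?_
    rintro _ ⟨J, hJ, y, rfl⟩
    by_cases hiJ : i ∈ J
    · have hJ' : J.erase i ⊆ K := fun a ha =>
        (Finset.mem_insert.1 (hJ (Finset.mem_of_mem_erase ha))).resolve_left (Finset.ne_of_mem_erase ha)
      have hz : (∏ l ∈ K \ J.erase i, t l) • LogConn.compProd nabla ω (J.erase i) y ∈ pieceB t' ω' nabla K :=
        ih (Submodule.subset_span ⟨_, hJ', y, rfl⟩)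
      have e : insert i K \ J = K \ J.erase i := by
        ext a; by_cases ha : a = i <;> simp [ha, hi, hiJ]
      rw [← Finset.insert_erase hiJ, compProd_insert hcomm (Finset.notMem_erase i J), LinearMap.comp_apply,
        Finset.insert_erase hiJ, e, ← comp_prod_smul H (fun h => hi (Finset.mem_sdiff.1 h).1)]
      generalize (∏ l ∈ K \ J.erase i, t l) • LogConn.compProd nabla ω (J.erase i) y = z at hz
      rw [comp_change (ω' := ω')]
      refine Submodule.sum_mem _ fun l _ => ?_
      obtain ⟨r, hr⟩ := hM i l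
      rw [hr, add_smul, mul_comm]
      refine add_mem ?_ (hscal _ (comp_mem_self H' hcomm' l hz) r)
      split_ifs with hl
      · subst hl; rw [one_smul]; exact comp_mem_insert H' hcomm' hi hz
      · rw [zero_smul]; exact zero_mem _
    · have hJK : J ⊆ K := (Finset.subset_insert_iff_of_notMem hiJ).1 hJ
      rw [Finset.insert_sdiff_of_notMem K hiJ, Finset.prod_insert (fun h => hi (Finset.mem_sdiff.1 h).1),
        mul_smul, ← one_mul (t i)]
      exact hscal _ (ih (Submodule.subset_span ⟨J, hJK, y, rfl⟩)) 1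

include hM'

theorem layer_le (p : ℕ) : LogConn.layer nabla ω t p ≤ LogConn.layer nabla ω' t' p := by
  intro x hx
  rw [eq_sum_coordE ω x]
  refine Submodule.sum_mem _ fun L' _ => mem_layer_of H' fun K => ?_
  have hm := pieceB_le H H' hcomm hcomm' ht hM _ (mem_pieceB_of_mem_layer H hx L')
  rw [exteriorBasis_apply]
  refine coordE_mem ω' K _ _ fun f hf => ?_
  choose r hr using fun b => hM' (enum K b) (enum L' (f b))
  simp only [Function.comp_apply, hr]
  rw [Finset.prod_add, Finset.sum_smul]
  refine Submodule.sum_mem _ fun T _ => ?_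
  by_cases hT : ∀ b ∈ T, enum L' (f b) = enum K b
  swap
  · push Not at hT
    obtain ⟨b, hb, hne⟩ := hT
    rw [Finset.prod_eq_zero hb (if_neg hne), zero_mul, zero_smul]
    exact zero_mem _
  rw [Finset.prod_eq_one (fun b hb => if_pos (hT b hb)), one_mul, Finset.prod_mul_distrib, mul_comm, mul_smul]
  refine Submodule.smul_mem _ _ ?_
  have h1 : T.image (enum K) ⊆ (K : Finset (Fin n)) := by
    rw [← image_enum K]; exact Finset.image_subset_image (Finset.subset_univ T)
  have h2 : T.image (enum K) ⊆ (L' : Finset (Fin n)) := by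
    intro a ha
    obtain ⟨b, hb, rfl⟩ := Finset.mem_image.1 ha
    rw [← image_enum L', ← hT b hb]
    exact Finset.mem_image_of_mem _ (Finset.mem_univ _)
  have h3 := prod_smul_mem (t := t') (ω := ω') (nabla := nabla) h1 (pieceB_anti hcomm' h2 hm)
  rw [← Finset.prod_image (f := t') (fun a _ b _ h => enum_injective K h),
    Finset.image_sdiff _ _ (enum_injective K), image_enum]
  exact h3

end Groth.Agent.LC97
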