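import Groth.Agent.LC97.Basic

/-! The layers `⊕ E_K ⊗ ω_K`. -/

set_option autoImplicit false
universe u v

noncomputable section

open TensorProduct

namespace Groth.Agent.LC97

variable {A : Type v} {B L E : Type u} [CommRing A] [CommRing B] [Algebra A B]
  [AddCommGroup L] [Module B L]
  [AddCommGroup E] [Module B E]
  {n : ℕ} {p : ℕ} (ω : Module.Basis (Fin n) B L)

/-- the increasing enumeration -/
def enum (K : Set.powersetCard (Fin n) p) (b : Fin p) : Fin n := Set.powersetCard.ofFinEmbEquiv.symm K b

theorem enum_injective (K : Set.powersetCard (Fin n) p) : Function.Injective (enum K) :=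
  (Set.powersetCard.ofFinEmbEquiv.symm K).injective

theorem image_enum (K : Set.powersetCard (Fin n) p) : Finset.univ.image (enum K) = (K : Finset (Fin n)) := by
  ext i
  simp only [Finset.mem_image, Finset.mem_univ, true_and]
  exact (Set.powersetCard.mem_range_ofFinEmbEquiv_symm_iff_mem K i).trans Iff.rfl

theorem exteriorBasis_apply (K : Set.powersetCard (Fin n) p) :
    ω.exteriorPower p K = exteriorPower.ιMulti B p (ω ∘ enum K) := by
  rw [exteriorPower.basis_apply, exteriorPower.ιMulti_family]; rfl

theorem coordE_tmul_ιMulti (K : Set.powersetCard (Fin n) p) (m : E) (v : Fin p → L) :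
    LogConn.coordE (E := E) ω p K (m ⊗ₜ exteriorPower.ιMulti B p v) =
      (Matrix.of fun a b => ω.coord (enum K b) (v a)).det • m := by
  rw [LogConn.coordE, LinearMap.comp_apply, TensorProduct.map_tmul, LinearEquiv.coe_coe, TensorProduct.rid_tmul,
    exteriorPower.basis_coord, exteriorPower.ιMultiDual_apply_ιMulti]
  rfl

theorem coordE_mem {P : Submodule B E} (K : Set.powersetCard (Fin n) p) (m : E) (v : Fin p → L)
    (h : ∀ f : Fin p → Fin p, Function.Bijective f → (∏ b, ω.coord (enum K b) (v (f b))) • m ∈ P) :
    LogConn.coordE (E := E) ω p K (m ⊗ₜ exteriorPower.ιMulti B p v) ∈ P := by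
  rw [coordE_tmul_ιMulti, Matrix.det_apply, Finset.sum_smul]
  refine Submodule.sum_mem _ fun σ _ => ?_
  rw [Units.smul_def, zsmul_eq_mul, mul_smul]
  exact Submodule.smul_mem _ _ (h σ σ.bijective)

theorem eq_sum_coordE (x : E ⊗[B] ↥(⋀[B]^p L)) :
    x = ∑ K : Set.powersetCard (Fin n) p, LogConn.coordE (E := E) ω p K x ⊗ₜ ω.exteriorPower p K := by
  induction x using TensorProduct.induction_on with
  | zero => simp
  | add u v hu hv => simp only [map_add, TensorProduct.add_tmul, Finset.sum_add_distrib, ← hu, ← hv]
  | tmul m η =>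
    conv_lhs => rw [← (ω.exteriorPower p).sum_repr η, TensorProduct.tmul_sum]
    refine Finset.sum_congr rfl fun K _ => ?_
    rw [LogConn.coordE, LinearMap.comp_apply, TensorProduct.map_tmul, LinearEquiv.coe_coe, TensorProduct.rid_tmul,
      LinearMap.id_apply, Module.Basis.coord_apply, TensorProduct.smul_tmul]

theorem oneEquiv_symm (x : L) : (exteriorPower.oneEquiv B L).symm x = exteriorPower.ιMulti B 1 ![x] := by
  rw [LinearEquiv.symm_apply_eq, exteriorPower.oneEquiv_ιMulti]; rfl

theorem wedge_ιMulti (x : L) (v : Fin p → L) :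
    Conn.wedge p ((exteriorPower.oneEquiv B L).symm x) (exteriorPower.ιMulti B p v) =
      exteriorPower.ιMulti B (p + 1) (Fin.cons x v) := by
  refine Subtype.ext ?_
  rw [Conn.wedge_apply_coe, oneEquiv_symm, exteriorPower.ιMulti_apply_coe, exteriorPower.ιMulti_apply_coe,
    exteriorPower.ιMulti_apply_coe, ExteriorAlgebra.ιMulti_succ_apply (v := Fin.cons x v)]
  simp [ExteriorAlgebra.ιMulti_succ_apply, ExteriorAlgebra.ιMulti_zero_apply, Matrix.vecTail, Matrix.vecHead,
    Function.comp_def]

theorem det_two (a b i j : Fin n) :
    exteriorPower.pairingDual B L 2 (exteriorPower.ιMulti B 2 ![ω.coord a, ω.coord b])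
        (exteriorPower.ιMulti B 2 ![ω i, ω j]) =
      (if i = a then 1 else 0) * (if j = b then 1 else 0) - (if i = b then 1 else 0) * (if j = a then 1 else 0) := by
  rw [exteriorPower.pairingDual_ιMulti_ιMulti, Matrix.det_fin_two]
  simp [Finsupp.single_apply]

variable [Module A E] [IsScalarTower A B E] (t : Fin n → B)
  (bΩ : Module.Basis (Fin n) B (KaehlerDifferential A B))
  (nabla : E →ₗ[A] E ⊗[B] L)

theorem mem_layer (x : E ⊗[B] ↥(⋀[B]^p L)) :
    x ∈ LogConn.layer nabla ω t p ↔
      ∀ K : Set.powersetCard (Fin n) p, LogConn.coordE (E := E) ω p K x ∈ LogConn.piece nabla ω t (K : Finset _) := by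
  simp [LogConn.layer]

theorem nabla_eq (m : E) : nabla m = ∑ i, LogConn.comp nabla ω i m ⊗ₜ ω i := by
  have key : ∀ z : E ⊗[B] L, z = ∑ i, TensorProduct.rid B E (TensorProduct.map LinearMap.id (ω.coord i) z) ⊗ₜ ω i := by
    intro z
    induction z using TensorProduct.induction_on with
    | zero => simp
    | add u v hu hv => simp only [map_add, TensorProduct.add_tmul, Finset.sum_add_distrib, ← hu, ← hv]
    | tmul e x =>
      conv_lhs => rw [← ω.sum_repr x, TensorProduct.tmul_sum]
      refine Finset.sum_congr rfl fun i _ => ?_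
      rw [TensorProduct.map_tmul, TensorProduct.rid_tmul, LinearMap.id_apply, Module.Basis.coord_apply,
        TensorProduct.smul_tmul]
  exact key (nabla m)

variable {ω t bΩ nabla} [Module A L] [IsScalarTower A B L] {lam : B} {ι : KaehlerDifferential A B →ₗ[B] L}
  (H : Data t bΩ ω nabla lam ι)

include H

theorem iota_factor (i : Fin n) (x : L) (hx : x ∈ LinearMap.range ι) : ∃ r, ω.coord i x = r * t i := by
  obtain ⟨η, rfl⟩ := hx
  exact ⟨_, coord_iota t ω bΩ ι (fun i => by rw [H.hbΩ, H.hι]) i η⟩

theorem span_gens_eq :
    (Submodule.span B (LogConn.gens nabla ω ι p)).restrictScalars A = LogConn.layer nabla ω t p := by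
  classical
  refine le_antisymm ?_ ?_
  · intro x hx
    rw [mem_layer]
    intro K
    rw [← piece_eq H]
    show LogConn.coordE (E := E) ω p K x ∈ pieceB t ω nabla _
    change x ∈ Submodule.span B (LogConn.gens nabla ω ι p) at hx
    induction hx using Submodule.span_induction with
    | mem x hx =>
      obtain ⟨I, hI, e, v, hv1, hv2, rfl⟩ := hx
      refine coordE_mem ω K _ v fun f hf => ?_
      by_cases hmatch : ∀ b, ∀ hb : (f b).val < I.card, I.orderEmbOfFin rfl ⟨(f b).val, hb⟩ = enum K b
      swap
      · push Not at hmatch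
        obtain ⟨b, hb, hne⟩ := hmatch
        rw [Finset.prod_eq_zero (Finset.mem_univ b) (by
          rw [hv1 _ hb, Module.Basis.coord_apply, Module.Basis.repr_self, Finsupp.single_apply, if_neg hne]), zero_smul]
        exact zero_mem _
      have hr : ∀ b, I.card ≤ (f b).val → ∃ r, ω.coord (enum K b) (v (f b)) = r * t (enum K b) :=
        fun b hb => iota_factor H _ _ (hv2 _ hb)
      choose! r hr using hr
      rw [← Finset.prod_filter_mul_prod_filter_not Finset.univ (fun b => I.card ≤ (f b).val),
        Finset.prod_congr rfl (fun b hb => hr b (Finset.mem_filter.1 hb).2), Finset.prod_mul_distrib,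
        Finset.prod_eq_one (s := Finset.univ.filter fun b => ¬ I.card ≤ (f b).val) (fun b hb => by
          have hb' : (f b).val < I.card := not_le.1 (Finset.mem_filter.1 hb).2
          rw [hv1 _ hb', hmatch b hb', Module.Basis.coord_apply, Module.Basis.repr_self, Finsupp.single_eq_same]),
        mul_one, mul_smul]
      refine Submodule.smul_mem _ _ ?_
      have himg : (Finset.univ.filter fun b => I.card ≤ (f b).val).image (enum K) = (K : Finset (Fin n)) \ I := by
        ext i
        simp only [Finset.mem_image, Finset.mem_filter, Finset.mem_univ, true_and, Finset.mem_sdiff]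
        constructor
        · rintro ⟨b, hb, rfl⟩
          refine ⟨(image_enum K).subset (Finset.mem_image_of_mem _ (Finset.mem_univ b)), fun hmem => ?_⟩
          obtain ⟨a, ha⟩ : enum K b ∈ Set.range (I.orderEmbOfFin rfl) := by
            rw [Finset.range_orderEmbOfFin]; exact hmem
          obtain ⟨b', hb'⟩ := hf.2 ⟨a.val, lt_of_lt_of_le a.2 hI⟩
          have hlt : (f b').val < I.card := by rw [hb']; exact a.2
          have := hmatch b' hlt
          have : enum K b' = enum K b := by
            rw [← ha, ← this]
            exact congrArg _ (Fin.ext (congrArg Fin.val hb' :))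
          obtain rfl := enum_injective K this
          exact not_lt.2 hb hlt
        · rintro ⟨hiK, hiI⟩
          rw [← image_enum K, Finset.mem_image] at hiK
          obtain ⟨b, -, rfl⟩ := hiK
          refine ⟨b, not_lt.1 fun hb => hiI ?_, rfl⟩
          rw [← hmatch b hb]
          exact Finset.orderEmbOfFin_mem _ _ _
      have hIK : I ⊆ (K : Finset (Fin n)) := by
        intro i hi
        obtain ⟨a, rfl⟩ : i ∈ Set.range (I.orderEmbOfFin rfl) := by rw [Finset.range_orderEmbOfFin]; exact hi
        obtain ⟨b, hb⟩ := hf.2 ⟨a.val, lt_of_lt_of_le a.2 hI⟩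
        have hlt : (f b).val < I.card := by rw [hb]; exact a.2
        have e1 : (⟨(f b).val, hlt⟩ : Fin I.card) = a := Fin.ext (by simp [hb])
        rw [← e1, hmatch b hlt]
        exact (image_enum K).subset (Finset.mem_image_of_mem _ (Finset.mem_univ b))
      rw [← Finset.prod_image (f := t) (fun a _ b _ h => enum_injective K h), himg]
      exact Submodule.subset_span ⟨I, hIK, e, rfl⟩
    | zero => simp
    | add u v _ _ hu hv => rw [map_add]; exact add_mem hu hv
    | smul c z _ hz => rw [map_smul]; exact Submodule.smul_mem _ _ hz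
  · intro x hx
    rw [mem_layer] at hx
    show x ∈ Submodule.span B (LogConn.gens nabla ω ι p)
    rw [eq_sum_coordE ω x]
    refine Submodule.sum_mem _ fun K _ => ?_
    have hxK : LogConn.coordE (E := E) ω p K x ∈ pieceB t ω nabla (K : Finset (Fin n)) := by
      have h1 := hx K
      rw [← piece_eq H, Submodule.restrictScalars_mem] at h1
      exact h1
    suffices ∀ z ∈ pieceB t ω nabla (K : Finset _), z ⊗ₜ ω.exteriorPower p K ∈
        Submodule.span B (LogConn.gens nabla ω ι p) from this _ hxK
    intro z hz
    induction hz using Submodule.span_induction with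
    | mem z hz =>
      obtain ⟨J, hJ, y, rfl⟩ := hz
      have hcardK : (K : Finset (Fin n)).card = p := K.2
      have hJp : J.card ≤ p := hcardK ▸ Finset.card_le_card hJ
      have hcard : ((K : Finset (Fin n)) \ J).card = p - J.card := by rw [Finset.card_sdiff_of_subset hJ, hcardK]
      let σ : Fin p → Fin n := fun a => if h : a.val < J.card then J.orderEmbOfFin rfl ⟨a.val, h⟩
        else ((K : Finset (Fin n)) \ J).orderEmbOfFin hcard ⟨a.val - J.card, by omega⟩
      have hσmem : ∀ a, σ a ∈ (K : Finset (Fin n)) := fun a => by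
        simp only [σ]; split_ifs
        · exact hJ (Finset.orderEmbOfFin_mem _ _ _)
        · exact (Finset.mem_sdiff.1 (Finset.orderEmbOfFin_mem _ _ _)).1
      have hσJ : ∀ a, σ a ∈ J ↔ a.val < J.card := fun a => by
        simp only [σ]; split_ifs with h
        · exact iff_of_true (Finset.orderEmbOfFin_mem _ _ _) h
        · exact iff_of_false (Finset.mem_sdiff.1 (Finset.orderEmbOfFin_mem _ _ _)).2 h
      have hσinj : Function.Injective σ := fun a b hab => by
        have hJab : a.val < J.card ↔ b.val < J.card := by rw [← hσJ, hab, hσJ]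
        simp only [σ] at hab
        by_cases h : a.val < J.card
        · rw [dif_pos h, dif_pos (hJab.1 h)] at hab
          exact Fin.ext (by simpa using (J.orderEmbOfFin rfl).injective hab)
        · rw [dif_neg h, dif_neg (fun hb => h (hJab.2 hb))] at hab
          have := (((K : Finset (Fin n)) \ J).orderEmbOfFin hcard).injective hab
          simp only [Fin.mk.injEq] at this
          have : ¬ b.val < J.card := fun hb => h (hJab.2 hb)
          exact Fin.ext (by omega)
      have hτ : ∀ a, ∃ b, enum K b = σ a := fun a => by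
        have := (image_enum K).symm.subset (hσmem a)
        simpa using this
      choose τ hτ using hτ
      have hτbij : Function.Bijective τ := Finite.injective_iff_bijective.1 fun a b h =>
        hσinj (by rw [← hτ a, ← hτ b, h])
      let π : Equiv.Perm (Fin p) := Equiv.ofBijective τ hτbij
      let c : Fin p → B := fun a => if a.val < J.card then 1 else t (σ a)
      let v : Fin p → L := fun a => c a • ω (σ a)
      have hgen : LogConn.compProd nabla ω J y ⊗ₜ exteriorPower.ιMulti B p v ∈
          Submodule.span B (LogConn.gens nabla ω ι p) := by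
        refine Submodule.subset_span ⟨J, hJp, y, v, fun a ha => ?_, fun a ha => ?_, rfl⟩
        · simp only [v, c, if_pos ha, one_smul, σ, dif_pos ha]
        · exact ⟨KaehlerDifferential.D A B (t (σ a)), by simp only [v, c, if_neg (not_lt.2 ha), H.hι]⟩
      have hprod : ∏ a, c a = ∏ i ∈ (K : Finset (Fin n)) \ J, t i := by
        rw [Finset.prod_ite, Finset.prod_const_one, one_mul, ← Finset.prod_image (f := t) (fun a _ b _ h => hσinj h)]
        refine Finset.prod_congr ?_ fun _ _ => rfl
        ext i
        simp only [Finset.mem_image, Finset.mem_filter, Finset.mem_univ, true_and, Finset.mem_sdiff]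
        constructor
        · rintro ⟨a, ha, rfl⟩; exact ⟨hσmem a, fun h => ha ((hσJ a).1 h)⟩
        · rintro ⟨hiK, hiJ⟩
          rw [← image_enum K, Finset.mem_image] at hiK
          obtain ⟨b, -, rfl⟩ := hiK
          obtain ⟨a, rfl⟩ := hτbij.2 b
          rw [hτ] at hiJ ⊢
          exact ⟨a, fun h => hiJ ((hσJ a).2 h), rfl⟩
      have hι' : exteriorPower.ιMulti B p v = (∏ a, c a) • ((Equiv.Perm.sign π : ℤ) : B) • ω.exteriorPower p K := by
        rw [exteriorBasis_apply]
        show exteriorPower.ιMulti B p (fun a => c a • ω (σ a)) = _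
        rw [(exteriorPower.ιMulti B p).map_smul_univ]
        congr 1
        have : (fun a => ω (σ a)) = (ω ∘ enum K) ∘ π := funext fun a => by
          show ω (σ a) = ω (enum K (τ a)); rw [hτ]
        rw [this, AlternatingMap.map_perm, Units.smul_def]
        exact (Int.cast_smul_eq_zsmul B _ _).symm
      rw [hι', hprod] at hgen
      rcases Int.units_eq_one_or (Equiv.Perm.sign π) with hs | hs
      · rw [hs, Units.val_one, Int.cast_one, one_smul, ← TensorProduct.smul_tmul] at hgen
        exact hgen
      · rw [hs] at hgen
        simpa [TensorProduct.smul_tmul] using hgen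
    | zero => simp
    | add u v _ _ hu hv => rw [TensorProduct.add_tmul]; exact add_mem hu hv
    | smul c z _ hz => rw [← TensorProduct.smul_tmul']; exact Submodule.smul_mem _ _ hz

end Groth.Agent.LC97
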