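import Groth.Agent.LC97.Layer
import Groth.Prelude.Def_LogDiff

/-! Integrable logarithmic connections: the layers form a subcomplex and do not depend on coordinates. -/

set_option autoImplicit false
universe u v

noncomputable section

open TensorProduct

namespace Groth.Agent.LC97

variable {A : Type v} {B L E : Type u} [CommRing A] [CommRing B] [Algebra A B]
  [AddCommGroup L] [Module B L] [Module A L] [IsScalarTower A B L]
  [AddCommGroup E] [Module B E] [Module A E] [IsScalarTower A B E]
  {n : ℕ} {t : Fin n → B} {bΩ : Module.Basis (Fin n) B (KaehlerDifferential A B)}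
  {ω : Module.Basis (Fin n) B L} {nabla : E →ₗ[A] E ⊗[B] L}
  {lam : B} {ι : KaehlerDifferential A B →ₗ[B] L} (H : Data t bΩ ω nabla lam ι)

section d

variable {d : ∀ p : ℕ, ↥(⋀[B]^p L) →ₗ[A] ↥(⋀[B]^(p + 1) L)}
  {nablas : ∀ p : ℕ, E ⊗[B] ↥(⋀[B]^p L) →ₗ[A] E ⊗[B] ↥(⋀[B]^(p + 1) L)}

theorem d_ιMulti (hd : LogDiff.IsLogRule (KaehlerDifferential.D A B) ι (⇑ω) d) (p : ℕ) (g : Fin p → Fin n) :
    d p (exteriorPower.ιMulti B p (ω ∘ g)) = 0 := by
  have h := hd p 1 (ω ∘ g) fun k => Or.inr ⟨g k, rfl⟩
  rw [one_smul, Derivation.map_one_eq_zero, map_zero] at h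
  rw [h]
  exact AlternatingMap.map_coord_zero _ 0 (Fin.cons_zero _ _)

theorem nablas_tmul (hd : LogDiff.IsLogRule (KaehlerDifferential.D A B) ι (⇑ω) d)
    (hint : Conn.IsIntegrable nabla (fun p => lam • d p) nablas) (p : ℕ) (m : E) (g : Fin p → Fin n) :
    nablas p (m ⊗ₜ exteriorPower.ιMulti B p (ω ∘ g)) =
      ∑ i, LogConn.comp nabla ω i m ⊗ₜ exteriorPower.ιMulti B (p + 1) (Fin.cons (ω i) (ω ∘ g)) := by
  rw [hint.1 p m, LinearMap.smul_apply, d_ιMulti hd p g, smul_zero, TensorProduct.tmul_zero, add_zero,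
    nabla_eq ω nabla m, map_sum, map_sum, LinearMap.sum_apply]
  refine Finset.sum_congr rfl fun i _ => ?_
  rw [Conn.toOne_tmul, Conn.twedge_tmul, wedge_ιMulti]

theorem comp_comm_of (hd1 : ∀ i, d 1 (exteriorPower.ιMulti B 1 ![ω i]) = 0)
    (hint : Conn.IsIntegrable nabla (fun p => lam • d p) nablas) (a b : Fin n) (m : E) :
    LogConn.comp nabla ω a (LogConn.comp nabla ω b m) = LogConn.comp nabla ω b (LogConn.comp nabla ω a m) := by
  by_cases hab : a = b
  · rw [hab]
  have h := hint.2 m
  rw [nabla_eq ω nabla m, map_sum, map_sum] at h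
  have e : ∀ i, nablas 1 (Conn.toOne (LogConn.comp nabla ω i m ⊗ₜ ω i)) =
      ∑ j, LogConn.comp nabla ω j (LogConn.comp nabla ω i m) ⊗ₜ exteriorPower.ιMulti B 2 ![ω j, ω i] := by
    intro i
    rw [Conn.toOne_tmul, oneEquiv_symm, hint.1 1, LinearMap.smul_apply, hd1, smul_zero, TensorProduct.tmul_zero, add_zero,
      nabla_eq ω nabla _, map_sum, map_sum, LinearMap.sum_apply]
    refine Finset.sum_congr rfl fun j _ => ?_
    rw [Conn.toOne_tmul, Conn.twedge_tmul, wedge_ιMulti]
    rfl
  simp only [e] at h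
  have h2 := congrArg (fun z => TensorProduct.rid B E (TensorProduct.map LinearMap.id
    (exteriorPower.pairingDual B L 2 (exteriorPower.ιMulti B 2 ![ω.coord a, ω.coord b])) z)) h
  simp only [map_sum, map_zero, TensorProduct.map_tmul, TensorProduct.rid_tmul, LinearMap.id_apply, det_two] at h2
  simp only [sub_smul, mul_ite, mul_one, mul_zero, ite_smul, one_smul, zero_smul, Finset.sum_sub_distrib,
    ← ite_and] at h2
  rw [Finset.sum_eq_single b (fun x _ hx => by simp [hx]) (by simp), Finset.sum_eq_single a (fun x _ hx => by simp [hx])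
    (by simp), Finset.sum_eq_single a (fun x _ hx => by simp [hx]) (by simp),
    Finset.sum_eq_single b (fun x _ hx => by simp [hx]) (by simp)] at h2
  simp only [and_self, if_true] at h2
  exact sub_eq_zero.1 h2

theorem comp_comm (hd : LogDiff.IsLogRule (KaehlerDifferential.D A B) ι (⇑ω) d)
    (hint : Conn.IsIntegrable nabla (fun p => lam • d p) nablas) (a b : Fin n) (m : E) :
    LogConn.comp nabla ω a (LogConn.comp nabla ω b m) = LogConn.comp nabla ω b (LogConn.comp nabla ω a m) :=
  comp_comm_of (fun i => by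
    rw [show ![ω i] = ω ∘ ![i] from funext fun j => by fin_cases j; rfl]; exact d_ιMulti hd 1 _) hint a b m

end d

variable (hcomm : ∀ (a b : Fin n) (m : E),
  LogConn.comp nabla ω a (LogConn.comp nabla ω b m) = LogConn.comp nabla ω b (LogConn.comp nabla ω a m))

include hcomm

theorem compProd_insert {J : Finset (Fin n)} {i : Fin n} (hi : i ∉ J) :
    LogConn.compProd nabla ω (insert i J) = LogConn.comp nabla ω i ∘ₗ LogConn.compProd nabla ω J := by
  induction J using Finset.induction_on_min with
  | empty => exact compProd_insert_min ω nabla (by simp)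
  | insert m J hm ih =>
    simp only [Finset.mem_insert, not_or] at hi
    rcases lt_or_gt_of_ne hi.1 with h | h
    · refine compProd_insert_min ω nabla fun j hj => ?_
      rcases Finset.mem_insert.1 hj with rfl | hj
      · exact h
      · exact h.trans (hm j hj)
    · rw [Finset.insert_comm, compProd_insert_min ω nabla (i := m) (fun j hj => by
        rcases Finset.mem_insert.1 hj with rfl | hj
        · exact h
        · exact hm j hj), ih hi.2, compProd_insert_min ω nabla hm]
      exact LinearMap.ext fun x => hcomm m i _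

theorem comp_compProd (i : Fin n) (J : Finset (Fin n)) (x : E) :
    LogConn.comp nabla ω i (LogConn.compProd nabla ω J x) = LogConn.compProd nabla ω J (LogConn.comp nabla ω i x) := by
  induction J using Finset.induction_on with
  | empty => simp [compProd_empty]
  | insert a J ha ih => rw [compProd_insert hcomm ha, LinearMap.comp_apply, LinearMap.comp_apply, hcomm, ih]

theorem compProd_union {J K : Finset (Fin n)} (h : Disjoint J K) (x : E) :
    LogConn.compProd nabla ω (J ∪ K) x = LogConn.compProd nabla ω J (LogConn.compProd nabla ω K x) := by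
  induction J using Finset.induction_on with
  | empty => simp [compProd_empty]
  | insert a J ha ih =>
    rw [Finset.disjoint_insert_left] at h
    rw [Finset.insert_union, compProd_insert hcomm (by simp [ha, h.1]), compProd_insert hcomm ha, LinearMap.comp_apply,
      LinearMap.comp_apply, ih h.2]

theorem pieceB_anti {S K : Finset (Fin n)} (h : S ⊆ K) : pieceB t ω nabla K ≤ pieceB t ω nabla S := by
  refine Submodule.span_le.2 ?_
  rintro _ ⟨J, hJ, y, rfl⟩
  rw [← Finset.prod_sdiff (s₁ := S \ J) (s₂ := K \ J) (Finset.sdiff_subset_sdiff h subset_rfl), mul_smul]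
  refine Submodule.smul_mem _ _ ?_
  have e : S \ J = S \ (J ∩ S) := by ext a; simp +contextual
  have e2 := compProd_union hcomm (J := J ∩ S) (K := J \ S) (Finset.disjoint_left.2 fun a ha hb =>
    (Finset.mem_sdiff.1 hb).2 (Finset.mem_inter.1 ha).2) y
  rw [show J ∩ S ∪ J \ S = J from sup_inf_sdiff J S] at e2
  rw [e, e2]
  exact Submodule.subset_span ⟨J ∩ S, Finset.inter_subset_right, _, rfl⟩

omit hcomm in
theorem prod_smul_mem {S K : Finset (Fin n)} (h : S ⊆ K) {z : E} (hz : z ∈ pieceB t ω nabla S) :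
    (∏ i ∈ K \ S, t i) • z ∈ pieceB t ω nabla K := by
  induction hz using Submodule.span_induction with
  | mem z hz =>
    obtain ⟨J, hJ, y, rfl⟩ := hz
    rw [smul_smul, show K \ S = (K \ J) \ (S \ J) by
      ext a; by_cases haJ : a ∈ J
      · simp [haJ, hJ haJ]
      · simp [haJ], Finset.prod_sdiff (Finset.sdiff_subset_sdiff h subset_rfl)]
    exact Submodule.subset_span ⟨J, hJ.trans h, y, rfl⟩
  | zero => simp
  | add u v _ _ hu hv => rw [smul_add]; exact add_mem hu hv
  | smul c z _ hz => rw [smul_comm]; exact Submodule.smul_mem _ _ hz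

include H

theorem comp_mem_insert {K : Finset (Fin n)} {i : Fin n} (hi : i ∉ K) {z : E} (hz : z ∈ pieceB t ω nabla K) :
    LogConn.comp nabla ω i z ∈ pieceB t ω nabla (insert i K) := by
  suffices ∀ c : B, LogConn.comp nabla ω i (c • z) ∈ pieceB t ω nabla (insert i K) by simpa using this 1
  induction hz using Submodule.span_induction with
  | mem z hz =>
    obtain ⟨J, hJ, y, rfl⟩ := hz
    intro c
    have hiJ : i ∉ J := fun h => hi (hJ h)
    rw [comp_smul H, comp_prod_smul H (fun h => hi (Finset.mem_sdiff.1 h).1), ← LinearMap.comp_apply,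
      ← compProd_insert hcomm hiJ]
    refine add_mem (Submodule.smul_mem _ _ ?_) ?_
    · rw [show K \ J = insert i K \ insert i J by ext a; by_cases ha : a = i <;> simp [ha, hi]]
      exact Submodule.subset_span ⟨_, Finset.insert_subset_insert i hJ, y, rfl⟩
    · have hmem : (∏ l ∈ insert i K \ J, t l) • LogConn.compProd nabla ω J y ∈ pieceB t ω nabla (insert i K) :=
        Submodule.subset_span ⟨J, hJ.trans (Finset.subset_insert i K), y, rfl⟩
      rw [Finset.insert_sdiff_of_notMem K hiJ, Finset.prod_insert (fun h => hi (Finset.mem_sdiff.1 h).1), mul_smul] at hmem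
      rw [show lam * (del bΩ i c * t i) = (lam * del bΩ i c) * t i by ring, mul_smul]
      exact Submodule.smul_mem _ _ hmem
  | zero => simp
  | add u v _ _ hu hv => intro c; rw [smul_add, map_add]; exact add_mem (hu c) (hv c)
  | smul a z _ hz => intro c; rw [smul_smul]; exact hz _

theorem comp_mem_self {K : Finset (Fin n)} (i : Fin n) {z : E} (hz : z ∈ pieceB t ω nabla K) :
    LogConn.comp nabla ω i z ∈ pieceB t ω nabla K := by
  suffices ∀ c : B, LogConn.comp nabla ω i (c • z) ∈ pieceB t ω nabla K by simpa using this 1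
  induction hz using Submodule.span_induction with
  | mem z hz =>
    obtain ⟨J, hJ, y, rfl⟩ := hz
    intro c
    rw [comp_smul H, comp_smul H, comp_compProd hcomm, smul_add, smul_smul, smul_smul]
    refine add_mem (add_mem ?_ ?_) ?_
    · rw [mul_smul]; exact gen_mem hJ c _
    · have hmem := gen_mem (t := t) (ω := ω) (nabla := nabla) hJ (if i ∈ K \ J then c * lam else 0) y
      rw [del_prod H]
      split_ifs with h
      · rw [if_pos h, smul_smul] at hmem
        rwa [← mul_assoc c lam]
      · simp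
    · exact Submodule.smul_mem _ _ (Submodule.subset_span ⟨J, hJ, y, rfl⟩)
  | zero => simp
  | add u v _ _ hu hv => intro c; rw [smul_add, map_add]; exact add_mem (hu c) (hv c)
  | smul a z _ hz => intro c; rw [smul_smul]; exact hz _

omit hcomm in
theorem mem_pieceB_of_mem_layer {p : ℕ} {x : E ⊗[B] ↥(⋀[B]^p L)} (hx : x ∈ LogConn.layer nabla ω t p)
    (K : Set.powersetCard (Fin n) p) : LogConn.coordE (E := E) ω p K x ∈ pieceB t ω nabla (K : Finset (Fin n)) := by
  have h1 := (mem_layer ω t nabla x).1 hx K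
  rw [← piece_eq H, Submodule.restrictScalars_mem] at h1
  exact h1

omit hcomm in
theorem mem_layer_of {p : ℕ} {x : E ⊗[B] ↥(⋀[B]^p L)}
    (hx : ∀ K : Set.powersetCard (Fin n) p, LogConn.coordE (E := E) ω p K x ∈ pieceB t ω nabla (K : Finset (Fin n))) :
    x ∈ LogConn.layer nabla ω t p := by
  rw [mem_layer]
  intro K
  rw [← piece_eq H, Submodule.restrictScalars_mem]
  exact hx K

theorem nablas_mem {d : ∀ p : ℕ, ↥(⋀[B]^p L) →ₗ[A] ↥(⋀[B]^(p + 1) L)}
    {nablas : ∀ p : ℕ, E ⊗[B] ↥(⋀[B]^p L) →ₗ[A] E ⊗[B] ↥(⋀[B]^(p + 1) L)}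
    (hd : LogDiff.IsLogRule (KaehlerDifferential.D A B) ι (⇑ω) d)
    (hint : Conn.IsIntegrable nabla (fun p => lam • d p) nablas)
    (p : ℕ) (x : E ⊗[B] ↥(⋀[B]^p L)) (hx : x ∈ LogConn.layer nabla ω t p) :
    nablas p x ∈ LogConn.layer nabla ω t (p + 1) := by
  rw [eq_sum_coordE ω x, map_sum]
  refine Submodule.sum_mem _ fun K _ => ?_
  have hK := mem_pieceB_of_mem_layer H hx K
  rw [exteriorBasis_apply, nablas_tmul hd hint]
  refine Submodule.sum_mem _ fun i _ => mem_layer_of H fun K' => ?_
  refine coordE_mem ω K' _ _ fun f hf => ?_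
  rw [← Fin.comp_cons (⇑ω) i (enum K)]
  simp only [Function.comp_apply, Module.Basis.coord_apply, Module.Basis.repr_self, Finsupp.single_apply]
  by_cases hm : ∀ b, (Fin.cons i (enum K) : Fin (p + 1) → Fin n) (f b) = enum K' b
  swap
  · push Not at hm
    obtain ⟨b, hb⟩ := hm
    rw [Finset.prod_eq_zero (Finset.mem_univ b) (if_neg hb), zero_smul]
    exact zero_mem _
  rw [Finset.prod_eq_one (fun b _ => if_pos (hm b)), one_smul]
  have himg : (K' : Finset (Fin n)) = insert i (K : Finset (Fin n)) := by
    rw [← image_enum K', ← image_enum K]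
    ext a
    simp only [Finset.mem_image, Finset.mem_univ, true_and, Finset.mem_insert]
    constructor
    · rintro ⟨b, rfl⟩
      rw [← hm b]
      induction f b using Fin.cases with
      | zero => left; rfl
      | succ c => right; exact ⟨c, rfl⟩
    · rintro (rfl | ⟨c, rfl⟩)
      · obtain ⟨b, hb⟩ := hf.2 0; exact ⟨b, by rw [← hm b, hb]; rfl⟩
      · obtain ⟨b, hb⟩ := hf.2 c.succ; exact ⟨b, by rw [← hm b, hb]; rfl⟩
  have hi : i ∉ (K : Finset (Fin n)) := by
    intro hi
    have h1 := congrArg Finset.card himg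
    rw [Finset.insert_eq_of_mem hi, K'.2, K.2] at h1
    omega
  rw [himg]
  exact comp_mem_insert H hcomm hi hK

end Groth.Agent.LC97
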